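import Mathlib
import Groth.Prelude.Def_ConstGrp

set_option linter.unusedSectionVars false
set_option linter.unusedVariables false
set_option autoImplicit false
set_option maxHeartbeats 400000

noncomputable section

namespace Groth.Agent.Lib.Helper6.ZnDual

open TensorProduct

universe u

variable (k : Type u) [Field k] (n : ℕ) [NeZero n]

local notation "G" => Multiplicative (ZMod n)

section Forward

variable {k n}

/-- from an algebra isomorphism to a primitive root -/
theorem exists_primitive_of_algEquiv
    (φ : ConstGrp.F k G ≃ₐ[k] MonoidAlgebra k G) : ∃ ζ : k, IsPrimitiveRoot ζ n := by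
  classical
  let t : MonoidAlgebra k G := MonoidAlgebra.of k G (Multiplicative.ofAdd (1 : ZMod n))
  have ht : t ^ n = 1 := by
    rw [← map_pow, ← ofAdd_nsmul, nsmul_one, ZMod.natCast_self, ofAdd_zero, map_one]
  let x : ConstGrp.F k G := φ.symm t
  have hx : x ^ n = 1 := by
    rw [← map_pow, ht, map_one]
  have hxg : ∀ g : G, (x g) ^ n = 1 := by
    intro g
    have h0 := congrArg (fun f : ConstGrp.F k G => f g) hx
    have h1 : (x ^ n) g = (x g) ^ n := Pi.pow_apply x n g
    rw [← h1]
    exact h0
  -- injectivity
  have hinj : Function.Injective (fun g : G => x g) := by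
    intro g h hgh
    have h1 : (ConstGrp.ev k g).comp φ.symm.toAlgHom = (ConstGrp.ev k h).comp φ.symm.toAlgHom := by
      apply (MonoidAlgebra.lift k k G).symm.injective
      apply MonoidHom.ext
      intro m
      rw [MonoidAlgebra.lift_symm_apply, MonoidAlgebra.lift_symm_apply]
      have hm : MonoidAlgebra.single m (1 : k) = t ^ (Multiplicative.toAdd m).val := by
        rw [← map_pow, ← ofAdd_nsmul, nsmul_one, ZMod.natCast_zmod_val]
        rfl
      rw [hm, map_pow, map_pow]
      congr 1
    have h2 : ConstGrp.ev k g = ConstGrp.ev k h := by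
      ext f
      have := congrArg (fun ψ : MonoidAlgebra k G →ₐ[k] k => ψ (φ f)) h1
      simpa using this
    have h3 := congrArg (fun ψ : ConstGrp.F k G →ₐ[k] k => ψ (ConstGrp.e k g)) h2
    simp only [ConstGrp.ev_apply, ConstGrp.e_apply_self] at h3
    by_contra hne
    rw [ConstGrp.e_apply_of_ne (Ne.symm hne)] at h3
    exact one_ne_zero h3
  -- count
  let r : G → rootsOfUnity n k := fun g => rootsOfUnity.mkOfPowEq (x g) (hxg g)
  have hr : Function.Injective r := by
    intro g h hgh
    apply hinj
    have := congrArg (fun u : rootsOfUnity n k => ((u : kˣ) : k)) hgh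
    simpa [r, rootsOfUnity.coe_mkOfPowEq] using this
  have hcard : Nat.card G ≤ Nat.card (rootsOfUnity n k) := Nat.card_le_card_of_injective r hr
  have hG : Nat.card G = n := by
    rw [Nat.card_congr Multiplicative.toAdd, Nat.card_zmod]
  rw [hG] at hcard
  exact card_rootsOfUnity_eq_iff_exists_isPrimitiveRoot.mp (le_antisymm (card_rootsOfUnity k n) hcard)

end Forward

end Groth.Agent.Lib.Helper6.ZnDual
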