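import Mathlib
import Groth.Prelude.Def_ConstGrp
import Groth.Agent.Lib.Helper6.ZnDual.Basic

set_option linter.unusedSectionVars false
set_option linter.unusedVariables false
set_option autoImplicit false
set_option maxHeartbeats 400000

noncomputable section

namespace Groth.Agent.Lib.Helper6.ZnDual

open TensorProduct

universe u

variable {k : Type u} [Field k] {n : ℕ} [NeZero n]

local notation "G" => Multiplicative (ZMod n)

/-- the characters of `ℤ/n` attached to an additive character -/
def chi (ψ : AddChar (ZMod n) k) : G →* ConstGrp.F k G where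
  toFun g := fun h => ψ (Multiplicative.toAdd g * Multiplicative.toAdd h)
  map_one' := by
    ext h
    show ψ (Multiplicative.toAdd (1 : G) * Multiplicative.toAdd h) = 1
    rw [toAdd_one, zero_mul, AddChar.map_zero_eq_one]
  map_mul' a b := by
    ext h
    show ψ (Multiplicative.toAdd (a * b) * Multiplicative.toAdd h) =
      ψ (Multiplicative.toAdd a * Multiplicative.toAdd h) *
        ψ (Multiplicative.toAdd b * Multiplicative.toAdd h)
    rw [toAdd_mul, add_mul, AddChar.map_add_eq_mul]

theorem chi_apply (ψ : AddChar (ZMod n) k) (g h : G) :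
    chi ψ g h = ψ (Multiplicative.toAdd g * Multiplicative.toAdd h) := rfl

theorem chi_mul (ψ : AddChar (ZMod n) k) (g a b : G) :
    chi ψ g (a * b) = chi ψ g a * chi ψ g b := by
  rw [chi_apply, chi_apply, chi_apply, toAdd_mul, mul_add, AddChar.map_add_eq_mul]

theorem chi_one (ψ : AddChar (ZMod n) k) (g : G) : chi ψ g 1 = 1 := by
  rw [chi_apply, toAdd_one, mul_zero, AddChar.map_zero_eq_one]

/-- the algebra map `k[ℤ/n] → F` -/
def Phi (ψ : AddChar (ZMod n) k) : MonoidAlgebra k G →ₐ[k] ConstGrp.F k G :=
  MonoidAlgebra.lift k (ConstGrp.F k G) G (chi ψ)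

theorem Phi_single (ψ : AddChar (ZMod n) k) (g : G) :
    Phi ψ (MonoidAlgebra.single g 1) = chi ψ g := by
  rw [Phi, MonoidAlgebra.lift_single, one_smul]

theorem algHom_ext_of {B : Type u} [Semiring B] [Algebra k B]
    (φ₁ φ₂ : MonoidAlgebra k G →ₐ[k] B)
    (h : ∀ g : G, φ₁ (MonoidAlgebra.single g 1) = φ₂ (MonoidAlgebra.single g 1)) : φ₁ = φ₂ := by
  apply (MonoidAlgebra.lift k B G).symm.injective
  apply MonoidHom.ext
  intro m
  rw [MonoidAlgebra.lift_symm_apply, MonoidAlgebra.lift_symm_apply]
  exact h m

/-- the bialgebra map -/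
def PhiB (ψ : AddChar (ZMod n) k) : MonoidAlgebra k G →ₐc[k] ConstGrp.F k G :=
  BialgHom.ofAlgHom (Phi ψ)
    (by
      apply algHom_ext_of
      intro g
      rw [AlgHom.comp_apply, Phi_single]
      show Coalgebra.counit (R := k) (chi ψ g) = Coalgebra.counit (R := k) (MonoidAlgebra.single g (1 : k))
      rw [ConstGrp.counit_apply, chi_one, MonoidAlgebra.counit_single]
      rfl)
    (by
      apply algHom_ext_of
      intro g
      rw [AlgHom.comp_apply, AlgHom.comp_apply, Phi_single]
      show Algebra.TensorProduct.map (Phi ψ) (Phi ψ)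
          (Coalgebra.comul (R := k) (MonoidAlgebra.single g (1 : k))) =
        Coalgebra.comul (R := k) (chi ψ g)
      rw [ConstGrp.comul_eq_sum]
      have h1 : Coalgebra.comul (R := k) (MonoidAlgebra.single g (1 : k)) =
          MonoidAlgebra.single g (1 : k) ⊗ₜ[k] MonoidAlgebra.single g (1 : k) := by
        rw [MonoidAlgebra.comul_single]
        simp
      rw [h1, Algebra.TensorProduct.map_tmul, Phi_single]
      conv_lhs => rw [ConstGrp.eq_sum_smul_e (chi ψ g)]
      rw [TensorProduct.sum_tmul]
      apply Finset.sum_congr rfl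
      intro a _
      rw [TensorProduct.tmul_sum]
      apply Finset.sum_congr rfl
      intro b _
      rw [TensorProduct.smul_tmul_smul, chi_mul])

theorem PhiB_apply (ψ : AddChar (ZMod n) k) (x : MonoidAlgebra k G) : PhiB ψ x = Phi ψ x := rfl

theorem Phi_injective (ψ : AddChar (ZMod n) k) (hψ : ψ.IsPrimitive) :
    Function.Injective (Phi ψ) := by
  classical
  rw [injective_iff_map_eq_zero]
  intro x hx
  have hinj : Function.Injective (fun a : ZMod n => (AddChar.mulShift ψ a).toMonoidHom) := by
    intro a b hab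
    apply AddChar.to_mulShift_inj_of_isPrimitive hψ
    exact AddChar.toMonoidHomEquiv.injective hab
  have hli := (linearIndependent_monoidHom G k).comp
    (fun a : ZMod n => (AddChar.mulShift ψ a).toMonoidHom) hinj
  rw [Fintype.linearIndependent_iff] at hli
  -- expand `x`
  have hxsum : x = ∑ a : ZMod n, x.coeff (Multiplicative.ofAdd a) •
      MonoidAlgebra.single (Multiplicative.ofAdd a) (1 : k) := by
    apply MonoidAlgebra.ext
    ext g
    rw [MonoidAlgebra.coeff_sum, Finsupp.finset_sum_apply]
    rw [Finset.sum_eq_single (Multiplicative.toAdd g)]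
    · rw [MonoidAlgebra.coeff_smul_apply, MonoidAlgebra.coeff_single, Finsupp.single_apply, ofAdd_toAdd, if_pos rfl,
        smul_eq_mul, mul_one]
    · intro a _ ha
      rw [MonoidAlgebra.coeff_smul_apply, MonoidAlgebra.coeff_single, Finsupp.single_apply, if_neg, smul_zero]
      intro h
      exact ha (by rw [← h]; rfl)
    · intro h
      exact absurd (Finset.mem_univ _) h
  have hc := hli (fun a => x.coeff (Multiplicative.ofAdd a)) (by
    ext b
    have h1 := congrArg (fun f : ConstGrp.F k G => f b) hx
    rw [hxsum] at h1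
    simp only [map_sum, map_smul, Phi_single] at h1
    rw [Finset.sum_apply, Pi.zero_apply]
    rw [ConstGrp.sum_apply] at h1
    simp only [ConstGrp.smul_apply, chi_apply, ConstGrp.zero_apply] at h1
    simp only [Function.comp_apply, Pi.smul_apply, smul_eq_mul]
    rw [← h1]
    apply Finset.sum_congr rfl
    intro a _
    rfl)
  rw [hxsum]
  apply Finset.sum_eq_zero
  intro a _
  rw [hc a, zero_smul]

theorem Phi_bijective (ψ : AddChar (ZMod n) k) (hψ : ψ.IsPrimitive) :
    Function.Bijective (Phi ψ) := by
  refine ⟨Phi_injective ψ hψ, ?_⟩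
  have hfin : Module.finrank k (MonoidAlgebra k G) = Module.finrank k (ConstGrp.F k G) := by
    have h1 : Module.finrank k (ConstGrp.F k G) = Fintype.card G :=
      Module.finrank_eq_card_basis (ConstGrp.basis k G)
    have h2 : Module.finrank k (MonoidAlgebra k G) = Fintype.card G :=
      Module.finrank_eq_card_basis (MonoidAlgebra.basis G k)
    rw [h1, h2]
  haveI : Module.Finite k (MonoidAlgebra k G) := Module.Finite.of_basis (MonoidAlgebra.basis G k)
  exact (LinearMap.injective_iff_surjective_of_finrank_eq_finrank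
    (f := (Phi ψ).toLinearMap) hfin).mp (Phi_injective ψ hψ)

/-- self-duality of `ℤ/n` in the presence of a primitive root of unity -/
theorem nonempty_equiv_of_primitive (ζ : k) (hζ : IsPrimitiveRoot ζ n) :
    Nonempty (ConstGrp.F k G ≃ₐc[k] MonoidAlgebra k G) := by
  have hψ := AddChar.zmodChar_primitive_of_primitive_root n hζ
  exact ⟨(BialgEquiv.ofBijective (PhiB _) (Phi_bijective _ hψ)).symm⟩

theorem main (k : Type u) [Field k] (n : ℕ) [NeZero n] :
    Nonempty (ConstGrp.F k (Multiplicative (ZMod n)) ≃ₐc[k]
        MonoidAlgebra k (Multiplicative (ZMod n))) ↔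
      ∃ ζ : k, IsPrimitiveRoot ζ n := by
  constructor
  · rintro ⟨φ⟩
    exact exists_primitive_of_algEquiv (φ : ConstGrp.F k (Multiplicative (ZMod n)) ≃ₐ[k]
        MonoidAlgebra k (Multiplicative (ZMod n)))
  · rintro ⟨ζ, hζ⟩
    exact nonempty_equiv_of_primitive ζ hζ

end Groth.Agent.Lib.Helper6.ZnDual
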